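import Cfsg.Agent.Coset.Sift

set_option autoImplicit false
set_option maxRecDepth 100000
set_option linter.unusedVariables false

namespace CfsgLib.Coset.Suz.Out

/-- An element of order 11. -/
def uW : List Nat := [1, 2, 3, 4, 6, 5]

/-- An element of order 10 normalising the subgroup of order 11. -/
def sW : List Nat := [2, 4, 6, 1, 2, 3, 2, 1, 0, 5, 1, 2, 3, 2, 1, 4, 2, 3, 2, 6, 5, 1, 2, 5, 1, 6, 3, 1, 2, 1, 3, 6, 0, 1, 6, 4, 6, 0, 5, 4, 5, 6, 1, 6, 4, 0, 3, 1, 2, 5, 4, 3, 2, 0, 4, 0, 1, 3, 0, 6, 0, 4, 2, 0, 5]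

/-- An involution centralising the square of the element of order 10. -/
def zW : List Nat := [1, 0, 4, 3, 5, 1, 2, 3, 2, 1, 0, 1, 4, 3, 2, 0, 6, 4, 3, 1, 5, 3, 4, 1, 2, 5, 0, 6, 3, 4, 2, 1, 0, 4, 2, 5, 6, 4, 6, 2, 3, 5, 2, 5, 1, 6, 3, 0, 2, 0, 4, 5, 4, 3, 5, 1, 2, 1, 2, 5, 3, 6, 3, 5]

/-- Its partner under the outer automorphism. -/
def z2W : List Nat := [2, 1, 0, 1, 0, 3, 2, 3, 5, 1, 0, 1, 2, 3, 4, 5, 6, 3, 1, 3, 0, 3, 1, 2, 1, 0, 3, 4, 0, 5, 1, 2, 0, 3, 2, 6, 1, 2, 5, 2, 4, 6, 5, 0, 5, 6, 4, 3]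

/-- The conjugator for the outer automorphism. -/
def xW : List Nat := [0, 1, 5, 6, 1, 2, 3, 2, 1, 0, 1, 5, 1, 0, 2, 4, 6, 3, 0, 4, 1, 2, 6, 3, 1, 4, 0, 3, 0, 2, 1, 3, 6, 2, 4, 1, 0, 1, 6, 5, 2, 1, 2, 3, 4, 0, 6, 3, 0, 6, 5, 3, 6, 1, 0, 5, 1, 0, 1, 3]

/-- The generators as products of powers of the element of order 11 times the involution. -/
def genA : List (List Nat) := [[6, 5, 3, 9, 9, 2, 2, 1, 6, 6, 10, 2, 3, 5], [3, 7, 6, 1, 5, 2, 5, 6, 1, 1, 5, 3, 4, 10, 6, 10], [3, 4, 7, 4, 10, 8, 7, 7, 10, 10, 8, 3, 3, 7, 10, 1, 10, 6, 3, 3], [1, 1, 2, 7, 2, 1, 1, 6, 2, 8, 4, 4, 6, 10, 7], [9, 4, 2, 6, 8, 6, 8, 1, 1, 6, 5, 7, 7], [8, 8, 6, 5, 3, 7, 7, 5, 2], [10, 2, 7, 7, 5, 9, 8, 9, 10, 10, 5, 8, 6, 5, 7, 1, 8]]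

end CfsgLib.Coset.Suz.Out
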