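import Cfsg.Agent.Coset.Suz.TopData
import Cfsg.Agent.Coset.Suz.Out.DataTb
import Cfsg.Agent.Coset.Repack
import Mathlib.Tactic.IntervalCases
import Cfsg.Agent.Coset.Suz.Rels
import Cfsg.Agent.Coset.Suz.Out.Words
import Cfsg.Agent.Coset.Suz.Out.DataT
import Cfsg.Agent.Coset.Suz.Out.DataU

/-! Boolean checks for the outer automorphism group of the presented Suzuki group. -/

set_option autoImplicit false
set_option maxRecDepth 100000
set_option Elab.async false

namespace CfsgLib.Coset.Suz.Out

open CfsgLib.Coset

section Kernel

/-- Repetition of a word. -/
noncomputable def rep (m : Nat) (w : List Nat) : List Nat :=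
  Nat.rec (motive := fun _ => List Nat) [] (fun _ ih => w ++ ih) m

/-- The square of the normalising element. -/
def tW : List Nat := sW ++ sW

/-- Exchange of the last two generators. -/
noncomputable def swl (l : Nat) : Nat :=
  cond (Nat.beq l 5) 6 (cond (Nat.beq l 6) 5 l)

/-- A word with the last two generators exchanged. -/
noncomputable def swW (w : List Nat) : List Nat :=
  List.rec (motive := fun _ => List Nat) [] (fun l _ ih => swl l :: ih) w

/-- A product of syllables. -/
noncomputable def sylW (a : List Nat) : List Nat :=
  List.rec (motive := fun _ => List Nat) [] (fun e _ ih => (rep e uW ++ zW) ++ ih) a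

/-- The word of the long test. -/
noncomputable def t3W (w : List Nat) : List Nat :=
  rep 15 ((uW ++ w) ++ ((rep 2 uW ++ w) ++ (rep 3 uW ++ w)))

/-- The three tests passed by the involution. -/
noncomputable def tests (w : List Nat) : Bool :=
  cond (ST.eqB Tb (rep 20 (uW ++ w)) [])
    (cond (ST.eqB Tb (rep 10 (uW ++ w)) []) false (ST.eqB Tb (t3W w) [])) false

/-- A word commuting with `u` carries the first base point into its cycle. -/
noncomputable def centU (q : Nat) : Bool :=
  SU.siftAll Tb (fun i => followF (tget Tb) q (rep i uW)) fun w =>
    cond (SU.eqB Tb (w ++ uW) (uW ++ w))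
      (cond (allBelow 4 11 fun i =>
        cond (Nat.beq q (followF (tget Tb) (SU.B 0) (rep i uW))) false true) false true) true

/-- An involution commuting with the square of `s` passes the tests only if it is one of two. -/
noncomputable def centT (q : Nat) : Bool :=
  ST.siftAll Tb (fun i => followF (tget Tb) q (rep i tW)) fun w =>
    cond (ST.eqB Tb (w ++ tW) (tW ++ w))
      (cond (ST.eqB Tb (w ++ w) [])
        (cond (ST.eqB Tb w zW) true
          (cond (ST.eqB Tb w z2W) true (cond (tests w) false true))) true) true

end Kernel

theorem tb_ok : allBelow 11 1782 (sameRow Top.Tb Tb 7) = true := by decide +kernel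

theorem levT : allBelow 2 4 (ST.checkLev Tb 1782 7 11) = true := by decide +kernel

theorem levU : allBelow 2 4 (SU.checkLev Tb 1782 7 11) = true := by decide +kernel

theorem baseU : allBelow 2 4 (fun i =>
    Nat.beq (SU.B i) (follow (tget Tb) (SU.B 0) (rep i uW))) = true := by decide +kernel

theorem baseT : allBelow 2 4 (fun i =>
    Nat.beq (ST.B i) (follow (tget Tb) (ST.B 0) (rep i tW))) = true := by decide +kernel

theorem centU0 : belowBlock 8 1782 centU 0 = true := by decide +kernel
theorem centU1 : belowBlock 8 1782 centU 1 = true := by decide +kernel
theorem centU2 : belowBlock 8 1782 centU 2 = true := by decide +kernel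
theorem centU3 : belowBlock 8 1782 centU 3 = true := by decide +kernel
theorem centU4 : belowBlock 8 1782 centU 4 = true := by decide +kernel
theorem centU5 : belowBlock 8 1782 centU 5 = true := by decide +kernel
theorem centU6 : belowBlock 8 1782 centU 6 = true := by decide +kernel
theorem centU7 : belowBlock 8 1782 centU 7 = true := by decide +kernel

theorem centU_all : allBelow (8 + 3) 1782 centU = true :=
  allBelow_of_blocks (by decide +kernel) fun b hb => by
    have : b < 8 := hb
    interval_cases b
    · exact centU0
    · exact centU1
    · exact centU2
    · exact centU3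
    · exact centU4
    · exact centU5
    · exact centU6
    · exact centU7

theorem centT0 : belowBlock 8 1782 centT 0 = true := by decide +kernel
theorem centT1 : belowBlock 8 1782 centT 1 = true := by decide +kernel
theorem centT2 : belowBlock 8 1782 centT 2 = true := by decide +kernel
theorem centT3 : belowBlock 8 1782 centT 3 = true := by decide +kernel
theorem centT4 : belowBlock 8 1782 centT 4 = true := by decide +kernel
theorem centT5 : belowBlock 8 1782 centT 5 = true := by decide +kernel
theorem centT6 : belowBlock 8 1782 centT 6 = true := by decide +kernel
theorem centT7 : belowBlock 8 1782 centT 7 = true := by decide +kernel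

theorem centT_all : allBelow (8 + 3) 1782 centT = true :=
  allBelow_of_blocks (by decide +kernel) fun b hb => by
    have : b < 8 := hb
    interval_cases b
    · exact centT0
    · exact centT1
    · exact centT2
    · exact centT3
    · exact centT4
    · exact centT5
    · exact centT6
    · exact centT7

theorem letters_ok : checkLetters 7 [uW, sW, tW, zW, z2W, xW] = true := by decide +kernel

theorem u_ok : cond (ST.eqB Tb (rep 11 uW) []) (cond (ST.eqB Tb uW []) false true) false =
    true := by decide +kernel

theorem s_ok : ST.eqB Tb (uW ++ sW) (sW ++ rep 2 uW) = true := by decide +kernel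

theorem s_cent : allBelow 4 11 (fun i => cond (Nat.beq i 0) true
    (cond (ST.eqB Tb (rep i uW ++ sW) (sW ++ rep i uW)) false true)) = true := by decide +kernel

theorem z_comm : ST.eqB Tb (zW ++ tW) (tW ++ zW) = true := by decide +kernel

theorem z_sq : ST.eqB Tb (zW ++ zW) [] = true := by decide +kernel

theorem z_tests : tests zW = true := by decide +kernel

theorem z_ne : ST.eqB Tb zW z2W = false := by decide +kernel

theorem gen_ok : allBelow 3 7 (fun l =>
    cond (checkLetters 7 [sylW (genA.getD l [])])
      (ST.eqB Tb (sylW (genA.getD l [])) [l]) false) = true := by decide +kernel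

theorem swap_rels : allList (fun w =>
    cond (checkLetters 7 [swW w]) (ST.eqB Tb (swW w) []) false) rels = true := by decide +kernel

theorem x_u : ST.eqB Tb (xW ++ swW uW) (uW ++ xW) = true := by decide +kernel

theorem x_s : ST.eqB Tb (xW ++ swW sW) (sW ++ xW) = true := by decide +kernel

theorem x_z : ST.eqB Tb (xW ++ swW zW) (z2W ++ xW) = true := by decide +kernel

end CfsgLib.Coset.Suz.Out
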