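import Cfsg.Agent.Coset.Suz.Main
import Cfsg.Agent.Coset.Suz.Out.Checks
import Cfsg.Prelude.Def_KGroupFacts
import Mathlib.GroupTheory.Sylow

/-!
The outer automorphism group of the presented Suzuki group has order two.

An automorphism can be composed with an inner one to fix an element `U` of order 11 and an
element `S` of order 10 normalising its subgroup; then the image of an involution `Z` centralising
`S ^ 2` is one of two elements, and `U`, `Z` generate the group.
-/

set_option autoImplicit false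
set_option maxRecDepth 100000
set_option Elab.async false

namespace CfsgLib.Coset.Suz.Out

open CfsgLib.Coset

local notation "Gr" => Cfsg.Spor.Suz

theorem matchesTb : Matches Lg ρ Tb :=
  matches_ρ.repack (d := 11) (by rw [len_Lg]; exact tb_ok)

theorem valid_of {D : SiftData} (hk : D.k = 4) (hiv : ∀ l, D.iv l = l)
    (hm : ∏ i : Fin D.k, D.m i = 448345497600)
    (h : allBelow 2 4 (D.checkLev Tb 1782 7 11) = true) : D.Valid Lg ρ Tb where
  hm := matchesTb
  inv l := by rw [hiv, inv_eq_of_mul_eq_one_right (sq_all l)]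
  inv_lt l hl := by rw [hiv]; exact hl
  lev i hi := ⟨11, by rw [len_Lg]; exact of_allBelow h i (hk ▸ hi)⟩
  card := by rw [card_and_injective.1, hm]
  fin := card_le.1

theorem VT : ST.Valid Lg ρ Tb :=
  valid_of rfl (fun _ => rfl) (by show (∏ i : Fin 4, [1782, 1365, 1024, 180].getD i 0) = _; simp [Fin.prod_univ_succ]) levT

theorem VU : SU.Valid Lg ρ Tb :=
  valid_of rfl (fun _ => rfl) (by show (∏ i : Fin 4, [1782, 1365, 1024, 180].getD i 0) = _; simp [Fin.prod_univ_succ]) levU

theorem kT : ST.k ≤ 8 := by decide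

theorem lt7 {ws : List (List Nat)} (h : checkLetters 7 ws = true) {w : List Nat} (hw : w ∈ ws) :
    ∀ l ∈ w, l < (Lg).length := fun l hl => by rw [len_Lg]; exact letters_lt h w hw l hl

theorem lu : ∀ l ∈ uW, l < (Lg).length := lt7 letters_ok (by simp)
theorem ls : ∀ l ∈ sW, l < (Lg).length := lt7 letters_ok (by simp)
theorem lt : ∀ l ∈ tW, l < (Lg).length := lt7 letters_ok (by simp)
theorem lz : ∀ l ∈ zW, l < (Lg).length := lt7 letters_ok (by simp)
theorem lz2 : ∀ l ∈ z2W, l < (Lg).length := lt7 letters_ok (by simp)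
theorem lx : ∀ l ∈ xW, l < (Lg).length := lt7 letters_ok (by simp)

theorem lapp {u w : List Nat} (hu : ∀ l ∈ u, l < (Lg).length) (hw : ∀ l ∈ w, l < (Lg).length) :
    ∀ l ∈ u ++ w, l < (Lg).length := fun l h => (List.mem_append.mp h).elim (hu l) (hw l)

theorem lrep {w : List Nat} (hw : ∀ l ∈ w, l < (Lg).length) :
    ∀ m, ∀ l ∈ rep m w, l < (Lg).length := by
  intro m
  induction m with
  | zero => intro l h; simp [rep] at h
  | succ m ih => exact lapp hw ih

theorem lnil : ∀ l ∈ ([] : List Nat), l < (Lg).length := by simp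

theorem ev_rep (w : List Nat) : ∀ m, ev Lg (rep m w) = ev Lg w ^ m := by
  intro m
  induction m with
  | zero => simp [rep]
  | succ m ih => rw [show rep (m + 1) w = w ++ rep m w from rfl, ev_append, ih, pow_succ']

theorem eqW {u w : List Nat} (hu : ∀ l ∈ u, l < (Lg).length) (hw : ∀ l ∈ w, l < (Lg).length) :
    ST.eqB Tb u w = true ↔ ev Lg u = ev Lg w :=
  VT.eqB_iff kT hu hw

/-- The element of order 11. -/
noncomputable def U : Gr := ev Lg uW

/-- The element of order 10. -/
noncomputable def S : Gr := ev Lg sW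

/-- The involution. -/
noncomputable def Z : Gr := ev Lg zW

/-- The other involution. -/
noncomputable def Z2 : Gr := ev Lg z2W

theorem ev_tW : ev Lg tW = S * S := ev_append _ _ _

theorem U_pow : U ^ 11 = 1 := by
  have h := (cond_false_eq_true.mp u_ok).1
  rwa [eqW (lrep lu 11) lnil, ev_rep, ev_nil] at h

theorem orderOf_U : orderOf U = 11 := by
  have : Fact (Nat.Prime 11) := ⟨by norm_num⟩
  refine orderOf_eq_prime U_pow fun h1 => ?_
  have h := (cond_false_eq_true.mp u_ok).2
  rw [(eqW lu lnil).mpr (by rw [ev_nil]; exact h1)] at h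
  exact Bool.noConfusion h

theorem U_S : U * S = S * U ^ 2 := by
  have h := (eqW (lapp lu ls) (lapp ls (lrep lu 2))).mp s_ok
  rwa [ev_append, ev_append, ev_rep] at h

theorem U_pow_S : ∀ m, U ^ m * S = S * U ^ (2 * m) := by
  intro m
  induction m with
  | zero => simp
  | succ m ih =>
    rw [pow_succ, mul_assoc, U_S, ← mul_assoc, ih, mul_assoc, ← pow_add]
    ring_nf

theorem mem_cent_U {x : Gr} (hx : x * U = U * x) : ∃ i, x = U ^ i := by
  have hq : im ρ x (SU.B 0) < 1782 := im_lt _ (VU.base_lt (by decide))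
  have hB : ∀ i < 4, SU.B i = im ρ (U ^ i) (SU.B 0) := fun i hi => by
    rw [Nat.eq_of_beq_eq_true (of_allBelow baseU i hi), ← im_ev matchesTb (lrep lu i)
      (VU.base_lt (by decide)), ev_rep]
    rfl
  have hc : ∀ i : Nat, U ^ i * x = x * U ^ i := fun i =>
    ((show Commute U x from hx.symm).pow_left i).eq
  have himg : ∀ i < SU.k, follow (tget Tb) (im ρ x (SU.B 0)) (rep i uW) =
      im ρ x (SU.B i) := fun i hi => by
    rw [← im_ev matchesTb (lrep lu i) hq, ev_rep, ← im_mul]
    show im ρ (x * U ^ i) _ = _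
    rw [← hc, im_mul, ← hB i hi]
  obtain ⟨w, hl, he, hp⟩ := VU.of_siftAll himg (by have h0 := of_allBelow centU_all _ hq; simp only [centU, followF_eq] at h0; exact h0)
  rw [(VU.eqB_iff (by decide) (lapp hl lu) (lapp lu hl)).mpr
    (by rw [ev_append, ev_append, he]; exact hx), cond_true] at hp
  cases hh : allBelow 4 11 fun i => cond (Nat.beq (im ρ x (SU.B 0))
      (follow (tget Tb) (SU.B 0) (rep i uW))) false true
  · by_contra hne
    rw [not_exists] at hne
    have : allBelow 4 11 (fun i => cond (Nat.beq (im ρ x (SU.B 0))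
        (follow (tget Tb) (SU.B 0) (rep i uW))) false true) = true := by
      refine allBelow_of (by norm_num) fun i _ => ?_
      cases hb : Nat.beq (im ρ x (SU.B 0)) (follow (tget Tb) (SU.B 0) (rep i uW))
      · rfl
      · exfalso
        have e := Nat.eq_of_beq_eq_true hb
        rw [← im_ev matchesTb (lrep lu i) (VU.base_lt (by decide)), ev_rep] at e
        refine hne i (VU.ext fun j hj => ?_)
        rw [hB j hj, ← im_mul, hc, im_mul, e]
        rw [← im_mul, ← im_mul, pow_mul_comm U j i]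
        rfl
    rw [this] at hh
    exact Bool.noConfusion hh
  · rw [hh, cond_true] at hp
    exact Bool.noConfusion hp

theorem eq_of_commute_S {i : Nat} (h : U ^ i * S = S * U ^ i) : U ^ i = 1 := by
  rw [← pow_mod_orderOf, orderOf_U] at h ⊢
  by_contra hne
  have h0 : i % 11 ≠ 0 := fun h0 => hne (by rw [h0, pow_zero])
  have hb : Nat.beq (i % 11) 0 = false := by
    cases hh : Nat.beq (i % 11) 0
    · rfl
    · exact absurd (Nat.eq_of_beq_eq_true hh) h0
  have hs := of_allBelow s_cent (i % 11) (Nat.mod_lt _ (by norm_num))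
  rw [hb, cond_false, (eqW (lapp (lrep lu _) ls) (lapp ls (lrep lu _))).mpr
    (by rw [ev_append, ev_append, ev_rep]; exact h), cond_true] at hs
  exact Bool.noConfusion hs

theorem sylow_conj (φ : MulAut Gr) : ∃ x : Gr, ∃ k : Nat, x * φ U * x⁻¹ = U ^ k := by
  have := card_le.1
  have : Fact (Nat.Prime 11) := ⟨by norm_num⟩
  have hc : ∀ V : Gr, orderOf V = 11 →
      Nat.card (Subgroup.zpowers V) = 11 ^ (Nat.card Gr).factorization 11 := by
    intro V hV
    rw [Nat.card_zpowers, hV, card_and_injective.1]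
    have : (448345497600 : Nat).factorization 11 = 1 := by
      rw [Nat.factorization_def _ (by norm_num), show (448345497600 : Nat) = 11 * 40758681600 from
        by norm_num, padicValNat.mul (by norm_num) (by norm_num), padicValNat.self (by norm_num),
        padicValNat.eq_zero_of_not_dvd (by norm_num)]
    rw [this, pow_one]
  have h2 : orderOf (φ U) = 11 := by rw [MulEquiv.orderOf_eq, orderOf_U]
  obtain ⟨x, hx⟩ := MulAction.exists_smul_eq Gr (Sylow.ofCard _ (hc _ h2))
    (Sylow.ofCard _ (hc _ orderOf_U))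
  have hm : x * φ U * x⁻¹ ∈ Subgroup.zpowers U := by
    have h1 : x * φ U * x⁻¹ ∈ ((x • Sylow.ofCard _ (hc _ h2) : Sylow 11 Gr) : Subgroup Gr) := by
      rw [Sylow.coe_subgroup_smul]
      exact ⟨φ U, Subgroup.mem_zpowers _, rfl⟩
    rw [hx] at h1
    exact h1
  obtain ⟨k, hk⟩ := Submonoid.mem_powers_iff _ _ |>.mp
    ((isOfFinOrder_of_finite U).mem_powers_iff_mem_zpowers.mpr hm)
  exact ⟨x, k, hk.symm⟩

theorem conj_S_pow : ∀ j m : Nat, S ^ j * U ^ m * (S ^ j)⁻¹ = U ^ (6 ^ j * m) := by
  have h1 : ∀ m, S * U ^ m * S⁻¹ = U ^ (6 * m) := by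
    intro m
    rw [mul_inv_eq_iff_eq_mul, U_pow_S, ← pow_mod_orderOf U (2 * (6 * m)), orderOf_U,
      show 2 * (6 * m) % 11 = m % 11 by omega, ← orderOf_U, pow_mod_orderOf]
  intro j
  induction j with
  | zero => intro m; simp
  | succ j ih =>
    intro m
    rw [pow_succ, mul_inv_rev, show S ^ j * S * U ^ m * (S⁻¹ * (S ^ j)⁻¹) =
      S ^ j * (S * U ^ m * S⁻¹) * (S ^ j)⁻¹ by group, h1, ih, pow_succ, mul_assoc]

theorem exists_inv : ∀ k : Fin 11, k ≠ 0 → ∃ j : Fin 10, 6 ^ (j : Nat) * (k : Nat) % 11 = 1 := by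
  decide

/-- An automorphism composed with an inner one fixes `U` and `S`. -/
theorem exists_fix (φ : MulAut Gr) :
    ∃ x : Gr, (MulAut.conj x * φ) U = U ∧ (MulAut.conj x * φ) S = S := by
  obtain ⟨x, k, hk⟩ := sylow_conj φ
  have hk0 : k % 11 ≠ 0 := by
    intro h0
    rw [← pow_mod_orderOf, orderOf_U, h0, pow_zero, conj_eq_one_iff] at hk
    have := orderOf_U
    rw [φ.injective (hk.trans (map_one φ).symm), orderOf_one] at this
    exact absurd this (by norm_num)
  obtain ⟨j, hj⟩ := exists_inv ⟨k % 11, Nat.mod_lt _ (by norm_num)⟩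
    (fun h => hk0 (congrArg Fin.val h))
  have hU : (MulAut.conj (S ^ (j : Nat) * x) * φ) U = U := by
    simp only [MulAut.mul_apply, MulAut.conj_apply]
    rw [show S ^ (j : Nat) * x * φ U * (S ^ (j : Nat) * x)⁻¹ =
      S ^ (j : Nat) * (x * φ U * x⁻¹) * (S ^ (j : Nat))⁻¹ by group, hk, conj_S_pow,
      ← pow_mod_orderOf, orderOf_U]
    have : 6 ^ (j : Nat) * k % 11 = 1 := by rw [Nat.mul_mod, Nat.mod_mod] at hj; rw [Nat.mul_mod, hj]
    rw [this, pow_one]
  generalize S ^ (j : Nat) * x = y at hU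
  set ψ := MulAut.conj y * φ with hψ
  have h2 : U * ψ S = ψ S * U ^ 2 := by
    conv_lhs => rw [← hU]
    rw [← map_mul, U_S, map_mul, map_pow, hU]
  obtain ⟨i, hi⟩ := mem_cent_U (x := ψ S * S⁻¹) (by
    rw [← mul_assoc U, h2, mul_assoc, mul_assoc]
    congr 1
    rw [eq_mul_inv_iff_mul_eq, mul_assoc, U_S, inv_mul_cancel_left])
  rw [mul_inv_eq_iff_eq_mul] at hi
  refine ⟨U ^ (9 * i) * y, ?_, ?_⟩
  all_goals rw [map_mul, mul_assoc (MulAut.conj (U ^ (9 * i))), ← hψ, MulAut.mul_apply,
    MulAut.conj_apply]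
  · rw [hU, ((Commute.refl U).pow_left (9 * i)).eq, mul_inv_cancel_right]
  · rw [hi, mul_inv_eq_iff_eq_mul, ← mul_assoc, ← pow_add, U_pow_S]
    congr 1
    rw [← pow_mod_orderOf U (2 * (9 * i + i)), ← pow_mod_orderOf U (9 * i), orderOf_U,
      show 2 * (9 * i + i) % 11 = 9 * i % 11 from by omega]

/-- The tests as a property of the element. -/
def Test (g : Gr) : Prop :=
  (U * g) ^ 20 = 1 ∧ ¬ (U * g) ^ 10 = 1 ∧ ((U * g) * ((U ^ 2 * g) * (U ^ 3 * g))) ^ 15 = 1

theorem tests_iff {w : List Nat} (hw : ∀ l ∈ w, l < (Lg).length) :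
    tests w = true ↔ Test (ev Lg w) := by
  have h1 := eqW (lrep (lapp lu hw) 20) lnil
  have h2 := eqW (lrep (lapp lu hw) 10) lnil
  have h3 := eqW (u := t3W w)
    (lrep (lapp (lapp lu hw) (lapp (lapp (lrep lu 2) hw) (lapp (lrep lu 3) hw))) 15) lnil
  simp only [t3W, ev_rep, ev_append, ev_nil] at h1 h2 h3
  unfold tests Test t3W
  cases a : ST.eqB Tb (rep 20 (uW ++ w)) [] <;>
    cases b : ST.eqB Tb (rep 10 (uW ++ w)) [] <;>
    simp only [a, b, cond_true, cond_false, Bool.false_eq_true, false_iff, true_iff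
      ] at h1 h2 ⊢ <;>
    simp_all [U]

theorem Z_test : Test Z := (tests_iff lz).mp z_tests

theorem Z_comm : Z * (S * S) = (S * S) * Z := by
  have h := (eqW (lapp lz lt) (lapp lt lz)).mp z_comm
  rwa [ev_append, ev_append, ev_tW] at h

theorem Z_sq : Z * Z = 1 := by
  have h := (eqW (lapp lz lz) lnil).mp z_sq
  rwa [ev_append, ev_nil] at h

theorem two_images {g : Gr} (hc : g * (S * S) = (S * S) * g) (h2 : g * g = 1) (ht : Test g) :
    g = Z ∨ g = Z2 := by
  have hq : im ρ g (ST.B 0) < 1782 := im_lt _ (VT.base_lt (by decide))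
  have himg : ∀ i < ST.k, follow (tget Tb) (im ρ g (ST.B 0)) (rep i tW) =
      im ρ g (ST.B i) := fun i hi => by
    rw [← im_ev matchesTb (lrep lt i) hq, ev_rep, ev_tW, ← im_mul,
      ← (show Commute (S * S) g from hc.symm).pow_left i |>.eq, im_mul,
      Nat.eq_of_beq_eq_true (of_allBelow baseT i hi), ← im_ev matchesTb (lrep lt i)
        (VT.base_lt (by decide)), ev_rep, ev_tW]
  obtain ⟨w, hl, he, hp⟩ := VT.of_siftAll himg (by have h0 := of_allBelow centT_all _ hq; simp only [centT, followF_eq] at h0; exact h0)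
  rw [(eqW (lapp hl lt) (lapp lt hl)).mpr (by rw [ev_append, ev_append, he, ev_tW]; exact hc),
    cond_true, (eqW (lapp hl hl) lnil).mpr (by rw [ev_append, he, ev_nil]; exact h2),
    cond_true] at hp
  cases ha : ST.eqB Tb w zW
  · cases hb : ST.eqB Tb w z2W
    · rw [ha, cond_false, hb, cond_false, (tests_iff hl).mpr (he ▸ ht), cond_true] at hp
      exact Bool.noConfusion hp
    · exact Or.inr (he ▸ (eqW hl lz2).mp hb)
  · exact Or.inl (he ▸ (eqW hl lz).mp ha)

theorem image_Z (ψ : MulAut Gr) (hU : ψ U = U) (hS : ψ S = S) : ψ Z = Z ∨ ψ Z = Z2 := by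
  refine two_images ?_ ?_ ⟨?_, ?_, ?_⟩
  · simpa [hS] using congrArg ψ Z_comm
  · simpa using congrArg ψ Z_sq
  · simpa [hU] using congrArg ψ Z_test.1
  · intro h
    refine Z_test.2.1 (ψ.injective ?_)
    simpa [hU] using h
  · simpa [hU] using congrArg ψ Z_test.2.2

theorem gen_mem (l : Nat) (hl : l < 7) : fl Lg l ∈ Subgroup.closure ({U, Z} : Set Gr) := by
  have h := cond_false_eq_true.mp (of_allBelow gen_ok l hl)
  have e := (eqW (lt7 h.1 (List.mem_singleton_self _))
    (fun x hx => by rw [List.mem_singleton.mp hx, len_Lg]; exact hl)).mp h.2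
  rw [ev_cons, ev_nil, mul_one] at e
  rw [← e]
  generalize genA.getD l [] = a
  induction a with
  | nil => rw [show sylW [] = [] from rfl, ev_nil]; exact one_mem _
  | cons m a ih =>
    rw [show sylW (m :: a) = (rep m uW ++ zW) ++ sylW a from rfl, ev_append, ev_append, ev_rep]
    exact mul_mem (mul_mem (pow_mem (Subgroup.subset_closure (by simp [U])) m)
      (Subgroup.subset_closure (by simp [Z]))) ih

theorem closure_UZ : Subgroup.closure ({U, Z} : Set Gr) = ⊤ := by
  rw [eq_top_iff, ← closure_Lg, Subgroup.closure_le]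
  intro y hy
  obtain ⟨l, hl, rfl⟩ := List.getElem_of_mem hy
  have := gen_mem l hl
  rwa [fl, List.getD_eq_getElem _ _ hl] at this

theorem ext_UZ {α β : MulAut Gr} (hu : α U = β U) (hz : α Z = β Z) : α = β := by
  refine MulEquiv.ext fun y => ?_
  have hy : y ∈ Subgroup.closure ({U, Z} : Set Gr) := closure_UZ ▸ Subgroup.mem_top y
  induction hy using Subgroup.closure_induction with
  | mem y hy => rcases hy with rfl | rfl <;> assumption
  | one => simp
  | mul a b _ _ ha hb => rw [map_mul, map_mul, ha, hb]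
  | inv a _ ha => rw [map_inv, map_inv, ha]

/-- The images of the generators under the outer automorphism. -/
noncomputable def img : List Gr := [0, 1, 2, 3, 4, 6, 5].map (fl Lg)

theorem fl_img (l : Nat) : fl img l = fl Lg (swl l) := by
  match l with
  | 0 | 1 | 2 | 3 | 4 | 5 | 6 => rfl
  | n + 7 =>
    rw [fl_of_le _ (show 7 ≤ n + 7 by omega), show swl (n + 7) = n + 7 from rfl,
      fl_of_le _ (show (Lg).length ≤ n + 7 by rw [len_Lg]; omega)]

theorem ev_img (w : List Nat) : ev img w = ev Lg (swW w) := by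
  induction w with
  | nil => simp [swW]
  | cons l w ih =>
    rw [show swW (l :: w) = swl l :: swW w from rfl, ev_cons, ev_cons, ih, fl_img]

theorem img_rels : ∀ w ∈ pres.rels, ev img w = 1 := by
  rw [rels_eq]
  intro w hw
  have h := cond_false_eq_true.mp (allList_iff.mp swap_rels w hw)
  rw [ev_img, (eqW (lt7 h.1 (List.mem_singleton_self _)) lnil).mp h.2, ev_nil]

/-- The automorphism exchanging the last two generators, as a homomorphism. -/
noncomputable def twist : Gr →* Gr := pres.hom pres_ok img_rels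

theorem twist_ev : ∀ w : List Nat, (∀ l ∈ w, l < 7) → twist (ev Lg w) = ev Lg (swW w) := by
  intro w
  induction w with
  | nil => intro _; simp [swW]
  | cons l w ih =>
    intro hl
    obtain ⟨x, rfl⟩ := hix l (hl l (by simp))
    rw [show swW (ix x :: w) = swl (ix x) :: swW w from rfl, ev_cons, ev_cons, map_mul,
      ih (fun y hy => hl y (by simp [hy])), ← fl_img]
    congr 1
    exact pres.hom_fl pres_ok img_rels x

theorem twist_bijective : Function.Bijective twist := by
  have := card_le.1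
  have hinv : ∀ x : Gr, twist (twist x) = x := by
    intro x
    have hx : x ∈ Subgroup.closure {y | y ∈ Lg} := closure_Lg ▸ Subgroup.mem_top x
    induction hx using Subgroup.closure_induction with
    | mem y hy =>
      obtain ⟨l, hl, rfl⟩ := List.getElem_of_mem hy
      have hl7 : l < 7 := hl
      have e : ∀ j < 7, twist (fl Lg j) = fl Lg (swl j) := fun j hj => by
        have h := twist_ev [j] (by simpa using hj)
        simpa [swW, ev_cons] using h
      rw [show (Lg)[l] = fl Lg l from (List.getD_eq_getElem _ _ hl).symm, e l hl7,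
        e (swl l) (by interval_cases l <;> decide)]
      interval_cases l <;> rfl
    | one => simp
    | mul a b _ _ ha hb => rw [map_mul, map_mul, ha, hb]
    | inv a _ ha => rw [map_inv, map_inv, ha]
  exact ⟨Function.LeftInverse.injective hinv, Function.RightInverse.surjective hinv⟩

/-- The outer automorphism, normalised to fix `U` and `S`. -/
noncomputable def outer : MulAut Gr :=
  MulAut.conj (ev Lg xW) * MulEquiv.ofBijective twist twist_bijective

theorem outer_ev {w v : List Nat} (hw : ∀ l ∈ w, l < (Lg).length) (hv : ∀ l ∈ v, l < (Lg).length)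
    (h : ST.eqB Tb (xW ++ swW w) (v ++ xW) = true) : outer (ev Lg w) = ev Lg v := by
  have hs : ∀ l ∈ swW w, l < (Lg).length := by
    have : ∀ u : List Nat, (∀ l ∈ u, l < (Lg).length) → ∀ l ∈ swW u, l < (Lg).length := by
      intro u
      induction u with
      | nil => intro _ l hl; simp [swW] at hl
      | cons a u ih =>
        intro hu l hl
        rcases List.mem_cons.mp hl with rfl | hl
        · have ha : a < 7 := hu a (by simp)
          rw [len_Lg]
          interval_cases a <;> decide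
        · exact ih (fun y hy => hu y (by simp [hy])) l hl
    exact this w hw
  have e := (eqW (lapp lx hs) (lapp hv lx)).mp h
  rw [ev_append, ev_append] at e
  show MulAut.conj (ev Lg xW) (twist (ev Lg w)) = _
  rw [twist_ev w (fun l hl => by rw [← len_Lg]; exact hw l hl), MulAut.conj_apply, e,
    mul_inv_cancel_right]

theorem outer_U : outer U = U := outer_ev lu lu x_u
theorem outer_S : outer S = S := outer_ev ls ls x_s
theorem outer_Z : outer Z = Z2 := outer_ev lz lz2 x_z

theorem Z_ne : Z ≠ Z2 := fun h => by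
  have := z_ne
  rw [(eqW lz lz2).mpr h] at this
  exact Bool.noConfusion this

theorem outer_not_inner : outer ∉ Cfsg.Inn Gr := by
  rintro ⟨y, hy⟩
  have h : ∀ g, y * g * y⁻¹ = outer g := fun g => DFunLike.congr_fun hy g
  have hU := h U
  rw [outer_U, mul_inv_eq_iff_eq_mul] at hU
  obtain ⟨i, rfl⟩ := mem_cent_U hU
  have hS := h S
  rw [outer_S, mul_inv_eq_iff_eq_mul] at hS
  have hZ := h Z
  rw [eq_of_commute_S hS, outer_Z, one_mul, inv_one, mul_one] at hZ
  exact Z_ne hZ

theorem two_classes (φ : MulAut Gr) : φ ∈ Cfsg.Inn Gr ∨ φ * outer⁻¹ ∈ Cfsg.Inn Gr := by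
  obtain ⟨x, hU, hS⟩ := exists_fix φ
  rcases image_Z _ hU hS with hZ | hZ
  · left
    have e : MulAut.conj x * φ = 1 := ext_UZ hU hZ
    exact ⟨x⁻¹, by rw [map_inv]; exact inv_eq_of_mul_eq_one_right e⟩
  · right
    have e : MulAut.conj x * φ = outer :=
      ext_UZ (hU.trans outer_U.symm) (hZ.trans outer_Z.symm)
    refine ⟨x⁻¹, ?_⟩
    rw [← e, map_inv]
    simp [mul_inv_rev]

theorem card_out : Nat.card (Cfsg.Out Gr) = 2 := by
  show (Cfsg.Inn Gr).index = 2
  rw [Subgroup.index_eq_two_iff]
  refine ⟨outer, fun b => ?_⟩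
  by_cases hb : b ∈ Cfsg.Inn Gr
  · exact Or.inr ⟨hb, fun h => outer_not_inner (by simpa using mul_mem (InvMemClass.inv_mem hb) h)⟩
  · refine Or.inl ⟨?_, hb⟩
    rcases two_classes (b * outer) with h | h
    · exact h
    · exact absurd (by simpa using h) hb

end CfsgLib.Coset.Suz.Out
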